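import Mathlib

/-!
# Clopen subsets of basic open covers; completions
-/

set_option autoImplicit false

universe u

namespace GabberRigidLib

variable {A : Type u} [CommRing A]

theorem add_pow_of_orthogonal {a b : A} (h : a * b = 0) (n : ℕ) :
    (a + b) ^ (n + 1) = a ^ (n + 1) + b ^ (n + 1) := by
  induction n with
  | zero => simp
  | succ n ih =>
    rw [pow_succ, ih]
    linear_combination (a ^ n + b ^ n) * h

/-- A clopen subset of `⋃ D(f i)` is cut out by orthogonal families. -/
theorem exists_orthogonal {n : ℕ} (f : Fin n → A) (V : Set (PrimeSpectrum A))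
    (hV : V ⊆ {x | ∃ i, f i ∉ x.asIdeal}) (hVo : IsOpen V)
    (hVo' : IsOpen ({x : PrimeSpectrum A | ∃ i, f i ∉ x.asIdeal} \ V)) :
    ∃ (k l : Fin n → A) (e : ℕ), 0 < e ∧ (∀ i, ∃ d, 0 < d ∧ k i + l i = f i ^ d) ∧
      (∀ i j, k i * l j = 0) ∧ (∀ x, x ∈ V → ∀ j, l j ∈ x.asIdeal) ∧
      (∀ x : PrimeSpectrum A, x ∉ V → ∀ i, k i ∈ x.asIdeal) := by
  classical
  have hex : ∀ i, ∃ k l : A, ∃ d, 0 < d ∧ k + l = f i ^ d ∧ k * l = 0 ∧
      (∀ x, x ∈ V → l ∈ x.asIdeal) ∧ (∀ x : PrimeSpectrum A, x ∉ V → k ∈ x.asIdeal) := by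
    intro i
    let B := Localization.Away (f i)
    let c := PrimeSpectrum.comap (algebraMap A B)
    have hcr : Set.range c = (PrimeSpectrum.basicOpen (f i) : Set (PrimeSpectrum A)) :=
      PrimeSpectrum.localization_away_comap_range B (f i)
    have hc : Continuous c := PrimeSpectrum.continuous_comap _
    have hclop : IsClopen (c ⁻¹' V) := by
      refine ⟨?_, hVo.preimage hc⟩
      rw [← isOpen_compl_iff]
      have : (c ⁻¹' V)ᶜ = c ⁻¹' ({x : PrimeSpectrum A | ∃ i, f i ∉ x.asIdeal} \ V) := by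
        ext P
        have hP : c P ∈ (PrimeSpectrum.basicOpen (f i) : Set (PrimeSpectrum A)) := hcr ▸ Set.mem_range_self P
        exact ⟨fun h ↦ ⟨⟨i, hP⟩, h⟩, fun h ↦ h.2⟩
      rw [this]
      exact hVo'.preimage hc
    obtain ⟨ε, hε, hεV⟩ := PrimeSpectrum.exists_idempotent_basicOpen_eq_of_isClopen hclop
    obtain ⟨⟨a, _, N, rfl⟩, ha⟩ := IsLocalization.surj (Submonoid.powers (f i)) ε
    have ha' : ε * algebraMap A B (f i) ^ N = algebraMap A B a := by rw [← map_pow]; exact ha
    have hrel : algebraMap A B (a * a - f i ^ N * a) = 0 := by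
      rw [map_sub, map_mul, map_mul, map_pow, ← ha']
      have he : ε * ε = ε := hε
      linear_combination (algebraMap A B (f i) ^ N) ^ 2 * he
    obtain ⟨⟨_, K, rfl⟩, hK⟩ := (IsLocalization.map_eq_zero_iff (Submonoid.powers (f i)) B _).1 hrel
    simp only at hK
    refine ⟨f i ^ (K + 1) * a, f i ^ (K + 1) * (f i ^ N - a), K + 1 + N, by omega,
      by ring, by linear_combination -(f i ^ (K + 2)) * hK, fun x hx ↦ ?_, fun x hx ↦ ?_⟩
    · by_cases hfx : f i ∈ x.asIdeal
      · exact x.asIdeal.mul_mem_right _ (Ideal.pow_mem_of_mem _ hfx _ (by omega))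
      · obtain ⟨P, rfl⟩ : x ∈ Set.range c := hcr ▸ hfx
        refine Ideal.mul_mem_left _ _ ?_
        show algebraMap A B (f i ^ N - a) ∈ P.asIdeal
        have h1 : ε ∉ P.asIdeal := (hεV.le hx : P ∈ PrimeSpectrum.basicOpen ε)
        refine (P.isPrime.mem_or_mem ?_).resolve_left h1
        have he : ε * ε = ε := hε
        have h0 : ε * algebraMap A B (f i ^ N - a) = 0 := by
          rw [map_sub, map_pow, ← ha']
          linear_combination -(algebraMap A B (f i) ^ N) * he
        rw [h0]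
        exact zero_mem _
    · by_cases hfx : f i ∈ x.asIdeal
      · exact x.asIdeal.mul_mem_right _ (Ideal.pow_mem_of_mem _ hfx _ (by omega))
      · obtain ⟨P, rfl⟩ : x ∈ Set.range c := hcr ▸ hfx
        refine Ideal.mul_mem_left _ _ ?_
        show algebraMap A B a ∈ P.asIdeal
        rw [← ha']
        refine Ideal.mul_mem_right _ _ (by_contra fun h ↦ hx ?_)
        exact hεV.ge h
  choose k l d hd hsum hkl hl hk using hex
  have hzero : ∀ i j, IsNilpotent (k i * l j) := fun i j ↦ by
    rw [← mem_nilradical, nilradical_eq_sInf, Submodule.mem_sInf]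
    intro P hP
    by_cases h : (⟨P, hP⟩ : PrimeSpectrum A) ∈ V
    · exact Ideal.mul_mem_left (I := P) _ (hl j _ h)
    · exact Ideal.mul_mem_right (I := P) _ (hk i _ h)
  choose e he using hzero
  let E := (Finset.univ : Finset (Fin n × Fin n)).sup (fun ij ↦ e ij.1 ij.2) + 1
  have hE : ∀ i j, e i j ≤ E := fun i j ↦
    (Finset.le_sup (f := fun ij ↦ e ij.1 ij.2) (Finset.mem_univ (i, j))).trans (Nat.le_succ _)
  refine ⟨fun i ↦ k i ^ E, fun i ↦ l i ^ E, E, Nat.succ_pos _, fun i ↦ ⟨d i * E, Nat.mul_pos (hd i) (Nat.succ_pos _), ?_⟩,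
    fun i j ↦ ?_, fun x hx j ↦ Ideal.pow_mem_of_mem _ (hl j x hx) _ (Nat.succ_pos _),
    fun x hx i ↦ Ideal.pow_mem_of_mem _ (hk i x hx) _ (Nat.succ_pos _)⟩
  · rw [pow_mul, ← hsum]
    exact (add_pow_of_orthogonal (hkl i) _).symm
  · rw [← mul_pow]
    exact pow_eq_zero_of_le (hE i j) (he i j)

variable {I : Ideal A}

/-- Elements of the completion are approximated by elements of the ring. -/
theorem exists_sub_mem_pow (hI : I.FG) (M : ℕ) (x : AdicCompletion I A) :
    ∃ a : A, x - algebraMap A (AdicCompletion I A) a ∈ (I ^ M).map (algebraMap A (AdicCompletion I A)) := by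
  obtain ⟨a, ha⟩ := Ideal.Quotient.mk_surjective (AdicCompletion.evalₐ I M x)
  refine ⟨a, ?_⟩
  set y := x - algebraMap A (AdicCompletion I A) a
  have h0 : AdicCompletion.evalₐ I M y = 0 := by
    rw [map_sub, AlgHom.commutes, ← ha, sub_eq_zero]
    rfl
  have h1 : AdicCompletion.eval I A M y = 0 := by
    rw [← AdicCompletion.factor_evalₐ_eq_eval I y (by simp), h0, map_zero]
  have h2 : y ∈ (I ^ M • ⊤ : Submodule A (AdicCompletion I A)) := by
    rw [AdicCompletion.pow_smul_top_eq_ker_eval hI]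
    exact h1
  rwa [Ideal.smul_top_eq_map] at h2

theorem mem_pow_of_map_mem (M : ℕ) {a : A}
    (h : algebraMap A (AdicCompletion I A) a ∈ (I ^ M).map (algebraMap A (AdicCompletion I A))) : a ∈ I ^ M := by
  have h1 : (I ^ M).map (algebraMap A (AdicCompletion I A)) ≤ RingHom.ker (AdicCompletion.evalₐ I M) :=
    Ideal.map_le_iff_le_comap.mpr fun z hz ↦ by
      show AdicCompletion.evalₐ I M (algebraMap A _ z) = 0
      rw [AlgHom.commutes]
      exact Ideal.Quotient.eq_zero_iff_mem.mpr hz
  have h2 : AdicCompletion.evalₐ I M (algebraMap A _ a) = 0 := h1 h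
  rw [AlgHom.commutes] at h2
  exact Ideal.Quotient.eq_zero_iff_mem.mp h2

theorem map_le_jacobson (hI : I.FG) :
    I.map (algebraMap A (AdicCompletion I A)) ≤ Ideal.jacobson ⊥ := by
  haveI := AdicCompletion.isAdicComplete (M := A) hI
  haveI : IsAdicComplete (I.map (algebraMap A (AdicCompletion I A))) (AdicCompletion I A) :=
    (IsAdicComplete.map_algebraMap_iff (R := A) (S := AdicCompletion I A) (M := AdicCompletion I A) (I := I)).mpr inferInstance
  exact IsAdicComplete.le_jacobson_bot _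

/-- A valuation subring of a field centred on a given proper ideal of a ring mapping to it. -/
theorem exists_valuationSubring {K : Type u} [Field K] (φ : A →+* K) (J : Ideal A) (m : Ideal A) [m.IsMaximal]
    (hk : RingHom.ker φ ≤ m) (hJ : J ≤ m) :
    ∃ R : ValuationSubring K, (∀ a, φ a ∈ R) ∧ ∀ a ∈ J, R.valuation (φ a) < 1 := by
  let m' : Ideal φ.range := m.map φ.rangeRestrict
  have hm' : m' ≠ ⊤ := by
    intro h
    have h2 := congrArg (Ideal.comap φ.rangeRestrict) h
    rw [Ideal.comap_map_of_surjective _ φ.rangeRestrict_surjective, Ideal.comap_top, ← RingHom.ker_eq_comap_bot,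
      φ.ker_rangeRestrict, sup_eq_left.2 hk] at h2
    exact Ideal.IsMaximal.ne_top ‹_› h2
  obtain ⟨R, hR, hR'⟩ := Ideal.image_subset_nonunits_valuationSubring m' hm'
  refine ⟨R, fun a ↦ hR ⟨a, rfl⟩, fun a ha ↦ ?_⟩
  exact R.mem_nonunits_iff.mp (hR' ⟨φ.rangeRestrict a, Ideal.mem_map_of_mem _ (hJ ha), rfl⟩)

/-- Elements of `J · (g)` have smaller valuation than the largest `g`. -/
theorem valuation_lt_of_mem {K : Type u} [Field K] (φ : A →+* K) (R : ValuationSubring K) (hφR : ∀ a, φ a ∈ R)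
    (J : Ideal A) (hJ : ∀ a ∈ J, R.valuation (φ a) < 1) {m : ℕ} (g : Fin m → A) (p : Fin m) (hp : φ (g p) ≠ 0)
    (hmax : ∀ q, R.valuation (φ (g q)) ≤ R.valuation (φ (g p))) {z : A}
    (hz : z ∈ J * Ideal.span (Set.range g)) : R.valuation (φ z) < R.valuation (φ (g p)) := by
  have hpos : 0 < R.valuation (φ (g p)) := by rw [zero_lt_iff, ne_eq, map_eq_zero]; exact hp
  induction hz using Submodule.mul_induction_on' with
  | mem_mul_mem c hc y hy =>
    have h1 : R.valuation (φ y) ≤ R.valuation (φ (g p)) := by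
      induction hy using Submodule.span_induction with
      | mem w hw => obtain ⟨q, rfl⟩ := hw; exact hmax q
      | zero => simp
      | add v w _ _ hv hw => rw [map_add]; exact (Valuation.map_add _ _ _).trans (max_le hv hw)
      | smul a v _ hv =>
        rw [smul_eq_mul, map_mul, map_mul]
        calc R.valuation (φ a) * R.valuation (φ v) ≤ 1 * R.valuation (φ (g p)) :=
              mul_le_mul' ((R.valuation_le_one_iff _).mpr (hφR a)) hv
          _ = _ := one_mul _
    rw [map_mul, map_mul]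
    calc R.valuation (φ c) * R.valuation (φ y) ≤ R.valuation (φ c) * R.valuation (φ (g p)) := mul_le_mul' le_rfl h1
      _ < 1 * R.valuation (φ (g p)) := mul_lt_mul_of_pos_right (hJ c hc) hpos
      _ = _ := one_mul _
  | add v _ w _ hv hw => rw [map_add]; exact (Valuation.map_add _ _ _).trans_lt (max_lt hv hw)

end GabberRigidLib
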