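import Groth.Agent.GabberRigidLib.Points
import Groth.Agent.ProperClopenLib.SeparatedHenselian
import Groth.Agent.DvrProperLib.Closure
import Mathlib.RingTheory.Valuation.LocalSubring

/-!
# Clopen decompositions from nearly orthogonal families over a henselian pair
-/

set_option autoImplicit false

universe u

open CategoryTheory AlgebraicGeometry MvPolynomial RelProjLib TopologicalSpace

namespace GabberRigidLib

noncomputable section

attribute [local instance] MvPolynomial.gradedAlgebra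

variable {A : Type u} [CommRing A] {m : ℕ}

/-- An element of `I G²` is the value at `g` of a quadratic form with coefficients in `I`. -/
theorem exists_quadratic (I : Ideal A) (g : Fin m → A) {z : A}
    (hz : z ∈ I * (Ideal.span (Set.range g) * Ideal.span (Set.range g))) :
    ∃ F : MvPolynomial (Fin m) A, F.IsHomogeneous 2 ∧ eval g F = z ∧
      ∀ {K : Type u} [CommRing K] (φ : A →+* K) (c : Fin m → K), (∀ a ∈ I, φ a = 0) → eval₂ φ c F = 0 := by
  induction hz using Submodule.mul_induction_on' with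
  | mem_mul_mem c hc y hy =>
    suffices H : ∃ F : MvPolynomial (Fin m) A, F.IsHomogeneous 2 ∧ eval g F = y by
      obtain ⟨F, hF, hFy⟩ := H
      refine ⟨C c * F, hF.C_mul c, by simp [hFy], fun φ d hφ ↦ ?_⟩
      simp [hφ c hc]
    rw [Ideal.span_mul_span'] at hy
    induction hy using Submodule.span_induction with
    | mem w hw =>
      obtain ⟨_, ⟨p, rfl⟩, _, ⟨q, rfl⟩, rfl⟩ := hw
      exact ⟨X p * X q, (isHomogeneous_X A p).mul (isHomogeneous_X A q), by simp⟩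
    | zero => exact ⟨0, isHomogeneous_zero _ _ _, by simp⟩
    | add v w _ _ hv hw =>
      obtain ⟨F, hF, hF'⟩ := hv
      obtain ⟨G, hG, hG'⟩ := hw
      exact ⟨F + G, hF.add hG, by simp [hF', hG']⟩
    | smul a v _ hv =>
      obtain ⟨F, hF, hF'⟩ := hv
      exact ⟨C a * F, hF.C_mul a, by simp [hF']⟩
  | add v _ w _ hv hw =>
    obtain ⟨F, hF, hF', hF''⟩ := hv
    obtain ⟨G, hG, hG', hG''⟩ := hw
    exact ⟨F + G, hF.add hG, by simp [hF', hG'], fun φ c hφ ↦ by simp [hF'' φ c hφ, hG'' φ c hφ]⟩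

/-- Clopen decomposition of the open set where some `g i` is invertible. -/
theorem exists_decomposition (I : Ideal A) [HenselianRing A I] (g : Fin m → A) (S : Set (Fin m))
    (hrel : ∀ i ∉ S, ∀ j ∈ S, g i * g j ∈ I * (Ideal.span (Set.range g) * Ideal.span (Set.range g))) :
    ∃ W : Set (PrimeSpectrum A), IsOpen ({x | ∃ i, g i ∉ x.asIdeal} ∩ W) ∧
      IsOpen ({x | ∃ i, g i ∉ x.asIdeal} \ W) ∧
      ∀ {K : Type u} [Field K] (φ : A →+* K) (R : ValuationSubring K), (∀ a, φ a ∈ R) →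
        (∀ a ∈ I, R.valuation (φ a) < 1) → ∀ p : Fin m, φ (g p) ≠ 0 →
        (∀ q, R.valuation (φ (g q)) ≤ R.valuation (φ (g p))) →
        ((⟨RingHom.ker φ, RingHom.ker_isPrime φ⟩ : PrimeSpectrum A) ∈ W ↔
          ∀ j ∈ S, R.valuation (φ (g j)) < R.valuation (φ (g p))) := by
  classical
  choose F hF2 hFg hFI using fun (ij : {ij : Fin m × Fin m // ij.1 ∉ S ∧ ij.2 ∈ S}) ↦
    exists_quadratic I g (hrel _ ij.2.1 _ ij.2.2)
  let lin : Set (MvPolynomial (Fin m) A) :=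
    Set.range (fun pq : Fin m × Fin m ↦ C (g pq.1) * X pq.2 - C (g pq.2) * X pq.1)
  let rel : Set (MvPolynomial (Fin m) A) := Set.range (fun ij ↦ X ij.1.1 * X ij.1.2 - F ij)
  let Z : Set (Proj (polyDeg m A)) := ProjectiveSpectrum.zeroLocus (polyDeg m A) (lin ∪ rel)
  have hZ : IsClosed Z := ProjectiveSpectrum.isClosed_zeroLocus _ _
  let T₁ : Closeds (Proj (polyDeg m A)) := ⟨Z, hZ⟩
  let P := (Scheme.IdealSheafData.vanishingIdeal T₁).subscheme
  let ι := (Scheme.IdealSheafData.vanishingIdeal T₁).subschemeι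
  have hιr : Set.range ι = Z := DvrProperLib.range_subscheme_vanishingIdeal T₁
  let f : P ⟶ Spec (CommRingCat.of A) := ι ≫ proj m A
  haveI : IsProper f := inferInstanceAs (IsProper (ι ≫ proj m A))
  have hf : ∀ (x : P) (a : A), a ∈ (f x).asIdeal ↔ C a ∈ (ι x).asHomogeneousIdeal := fun x a ↦ by
    rw [← mem_proj_iff]; rfl
  have hdisj : ∀ q ∈ Z, (∀ a ∈ I, C a ∈ q.asHomogeneousIdeal) →
      (∀ i ∉ S, X i ∈ q.asHomogeneousIdeal) ∨ (∀ j ∈ S, X j ∈ q.asHomogeneousIdeal) := by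
    intro q hq hI
    by_contra h
    simp only [not_or, not_forall] at h
    obtain ⟨⟨i, hi, hi'⟩, j, hj, hj'⟩ := h
    let ij : {ij : Fin m × Fin m // ij.1 ∉ S ∧ ij.2 ∈ S} := ⟨(i, j), hi, hj⟩
    have h1 : X i * X j - F ij ∈ q.asHomogeneousIdeal := hq (Or.inr ⟨ij, rfl⟩)
    have h2 : F ij ∈ q.asHomogeneousIdeal := by
      let π := Ideal.Quotient.mk q.asHomogeneousIdeal.toIdeal
      refine Ideal.Quotient.eq_zero_iff_mem.mp ?_
      have h3 : π (F ij) = eval₂ (π.comp C) (fun k ↦ π (X k)) (F ij) := by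
        have : π = eval₂Hom (π.comp C) (fun k ↦ π (X k)) :=
          MvPolynomial.ringHom_ext (fun a ↦ by simp) (fun k ↦ by simp)
        exact RingHom.congr_fun this _
      rw [h3]
      exact hFI ij _ _ fun a ha ↦ Ideal.Quotient.eq_zero_iff_mem.mpr (hI a ha)
    have h4 : X i * X j ∈ q.asHomogeneousIdeal.toIdeal := by simpa using Ideal.add_mem _ h1 h2
    exact (q.isPrime.mem_or_mem h4).elim hi' hj'
  let Cl : Set (Proj (polyDeg m A)) := (proj m A) ⁻¹' PrimeSpectrum.zeroLocus (I : Set A) ∩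
    ProjectiveSpectrum.zeroLocus (polyDeg m A) (MvPolynomial.X '' Sᶜ)
  have hCl : IsClosed Cl :=
    ((PrimeSpectrum.isClosed_zeroLocus _).preimage (proj m A).continuous).inter
      (ProjectiveSpectrum.isClosed_zeroLocus _ _)
  let V : P.Opens := ⟨ι ⁻¹' Clᶜ, hCl.isOpen_compl.preimage ι.continuous⟩
  let E : Set P := f ⁻¹' PrimeSpectrum.zeroLocus (I : Set A) ∩
    ι ⁻¹' ProjectiveSpectrum.zeroLocus (polyDeg m A) (MvPolynomial.X '' S)
  have hE : IsClosed E := ((PrimeSpectrum.isClosed_zeroLocus _).preimage f.continuous).inter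
      ((ProjectiveSpectrum.isClosed_zeroLocus _ _).preimage ι.continuous)
  have hIC : ∀ x : P, f x ∈ PrimeSpectrum.zeroLocus (I : Set A) →
      ∀ a ∈ I, C a ∈ (ι x).asHomogeneousIdeal := fun x hx a ha ↦ (hf x a).mp (hx ha)
  have hboth : ∀ x : P, (∀ i ∉ S, X i ∈ (ι x).asHomogeneousIdeal) →
      (∀ j ∈ S, X j ∈ (ι x).asHomogeneousIdeal) → False := fun x h h' ↦ by
    obtain ⟨k, hk⟩ := exists_X_notMem (ι x : ProjectiveSpectrum (polyDeg m A))
    exact hk (if hkS : k ∈ S then h' k hkS else h k hkS)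
  have hEV : E = (V : Set P) ∩ f ⁻¹' PrimeSpectrum.zeroLocus (I : Set A) := by
    ext x
    refine ⟨fun ⟨hx, hxS⟩ ↦ ⟨fun hc ↦ hboth x (fun i hi ↦ hc.2 ⟨i, hi, rfl⟩) (fun j hj ↦ hxS ⟨j, hj, rfl⟩), hx⟩,
      fun ⟨hxV, hx⟩ ↦ ⟨hx, ?_⟩⟩
    rintro _ ⟨j, hj, rfl⟩
    refine ((hdisj _ (hιr.le ⟨x, rfl⟩) (hIC x hx)).resolve_left fun h ↦ hxV ⟨hx, ?_⟩) j hj
    rintro _ ⟨i, hi, rfl⟩
    exact h i hi
  let T₂ : Closeds P := ⟨E, hE⟩
  let k := (Scheme.IdealSheafData.vanishingIdeal T₂).subschemeι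
  haveI : IsProper (k ≫ f) := inferInstance
  obtain ⟨O, hOc, -, hO⟩ := ProperClopenLib.exists_clopen_proper_lift_henselian f I V k
    ((DvrProperLib.range_subscheme_vanishingIdeal T₂).trans hEV)
  let D : Set (PrimeSpectrum A) := {x | ∃ i, g i ∉ x.asIdeal}
  have hD : IsOpen D := by
    have : D = ⋃ i, (PrimeSpectrum.basicOpen (g i) : Set (PrimeSpectrum A)) := by
      ext x; simp [D]
    rw [this]
    exact isOpen_iUnion fun i ↦ (PrimeSpectrum.basicOpen (g i)).isOpen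
  -- points over `D`
  have hlinZ : ∀ q ∈ Z, ∀ i j, C (g i) * X j - C (g j) * X i ∈ q.asHomogeneousIdeal :=
    fun q hq i j ↦ hq (Or.inl ⟨(i, j), rfl⟩)
  have huniq : ∀ x y : P, f x = f y → f x ∈ D → x = y := by
    intro x y hxy hxD
    refine ι.isClosedEmbedding.injective ?_
    have key : ∀ (x y : P), f x = f y → f x ∈ D →
        ((ι x).asHomogeneousIdeal ≤ (ι y).asHomogeneousIdeal) := fun x y hxy ⟨p, hp⟩ ↦
      le_of_forall_homogeneous (q := ι x) (q' := ι y) fun d G hG hGx ↦ by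
        have h1 := (mem_iff_of_linear (ι x) g (hlinZ _ (hιr.le ⟨x, rfl⟩))
          ⟨p, fun h ↦ hp ((hf x _).mpr h)⟩ hG).mp hGx
        exact (mem_iff_of_linear (ι y) g (hlinZ _ (hιr.le ⟨y, rfl⟩))
          ⟨p, fun h ↦ hp (by rw [hxy]; exact (hf y _).mpr h)⟩ hG).mpr
          ((hf y _).mp (hxy ▸ (hf x _).mpr h1))
    exact ProjectiveSpectrum.ext (le_antisymm (key x y hxy hxD) (key y x hxy.symm (hxy ▸ hxD)))
  have hptZ : ∀ {K : Type u} [Field K] (φ : A →+* K) (hc : ∃ i, φ (g i) ≠ 0),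
      pt φ (fun i ↦ φ (g i)) hc ∈ Z := by
    intro K _ φ hc
    have hev : ∀ G : MvPolynomial (Fin m) A, eval₂ φ (fun i ↦ φ (g i)) G = φ (eval g G) := fun G ↦ by
      rw [← eval₂_id, eval₂_comp_left]; rfl
    rintro _ (⟨⟨i, j⟩, rfl⟩ | ⟨ij, rfl⟩)
    · show C (g i) * X j - C (g j) * X i ∈ (pt φ _ hc).asHomogeneousIdeal
      rw [mem_pt_iff φ _ hc (((isHomogeneous_X A j).C_mul _).sub ((isHomogeneous_X A i).C_mul _)), hev]
      simp [mul_comm]
    · show X ij.1.1 * X ij.1.2 - F ij ∈ (pt φ _ hc).asHomogeneousIdeal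
      rw [mem_pt_iff φ _ hc (((isHomogeneous_X A _).mul (isHomogeneous_X A _)).sub (hF2 ij)), hev]
      simp [hFg]
  have hsurj : ∀ x ∈ D, ∃ y : P, f y = x := by
    rintro x ⟨p, hp⟩
    let φ := algebraMap A x.asIdeal.ResidueField
    have hc : ∃ i, φ (g i) ≠ 0 := ⟨p, fun h ↦ hp (Ideal.algebraMap_residueField_eq_zero.mp h)⟩
    obtain ⟨y, hy⟩ := hιr.ge (hptZ φ hc)
    refine ⟨y, PrimeSpectrum.ext (Ideal.ext fun a ↦ ?_)⟩
    rw [hf, hy]
    exact ((mem_pt_iff φ _ hc (isHomogeneous_C _ a)).trans (by rw [eval₂_C])).trans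
      Ideal.algebraMap_residueField_eq_zero
  refine ⟨f '' O, ?_, ?_, ?_⟩
  · have : D ∩ f '' O = D \ f '' (O : Set P)ᶜ := by
      ext x
      refine ⟨fun ⟨hx, y, hy, hyx⟩ ↦ ⟨hx, fun ⟨z, hz, hzx⟩ ↦ hz ?_⟩, fun ⟨hx, hx'⟩ ↦ ⟨hx, ?_⟩⟩
      · rwa [huniq z y (hzx.trans hyx.symm) (hzx ▸ hx)]
      · obtain ⟨y, rfl⟩ := hsurj x hx
        exact ⟨y, by_contra fun h ↦ hx' ⟨y, h, rfl⟩, rfl⟩
    rw [this]
    exact hD.sdiff (f.isClosedMap _ O.isOpen.isClosed_compl)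
  · exact hD.sdiff (f.isClosedMap _ hOc)
  intro K _ φ R hφR hφI p hp hmax
  have hc : ∃ i, φ (g i) ≠ 0 := ⟨p, hp⟩
  obtain ⟨y, hy⟩ := hιr.ge (hptZ φ hc)
  have hfy : f y = (⟨RingHom.ker φ, RingHom.ker_isPrime φ⟩ : PrimeSpectrum A) :=
    PrimeSpectrum.ext (Ideal.ext fun a ↦ by
      rw [hf, hy, mem_pt_iff φ _ hc (isHomogeneous_C _ a), eval₂_C]; rfl)
  -- the special point
  let φR : A →+* R := φ.codRestrict R hφR
  have hr : ∀ q, φ (g q) / φ (g p) ∈ R := fun q ↦ by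
    rw [← R.valuation_le_one_iff, map_div₀]
    exact div_le_one_of_le₀ (hmax q) zero_le
  let r : Fin m → R := fun q ↦ ⟨_, hr q⟩
  let res : R →+* IsLocalRing.ResidueField R := IsLocalRing.residue R
  have hrp : r p = 1 := Subtype.ext (div_self hp)
  have hc' : ∃ i, res (r i) ≠ 0 := ⟨p, by rw [hrp, map_one]; exact one_ne_zero⟩
  let q₁ : ProjectiveSpectrum (polyDeg m A) := pt (res.comp φR) (res ∘ r) hc'
  have hle : (ι y).asHomogeneousIdeal ≤ q₁.asHomogeneousIdeal :=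
    le_of_forall_homogeneous (q := ι y) (q' := q₁) fun d G hG hGy ↦ by
      rw [hy, mem_pt_iff φ _ hc hG] at hGy
      refine (mem_pt_iff (res.comp φR) (res ∘ r) hc' hG).mpr ?_
      rw [← eval₂_comp_left]
      suffices eval₂ φR r G = 0 by rw [this, map_zero]
      refine Subtype.ext ?_
      show R.subtype (eval₂ φR r G) = 0
      rw [eval₂_comp_left]
      have hd : eval₂ φ (fun i ↦ φ (g i)) G = φ (g p) ^ d * eval₂ (R.subtype.comp φR) (R.subtype ∘ r) G := by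
        rw [eval₂_eq, eval₂_eq, Finset.mul_sum]
        refine Finset.sum_congr rfl fun e he ↦ ?_
        have hdeg : ∑ i ∈ e.support, e i = d := by
          simpa [Finsupp.weight_apply, Finsupp.sum] using hG (MvPolynomial.mem_support_iff.mp he)
        rw [← hdeg, ← Finset.prod_pow_eq_pow_sum, mul_left_comm, ← Finset.prod_mul_distrib]
        refine congrArg₂ (· * ·) rfl (Finset.prod_congr rfl fun i _ ↦ ?_)
        show φ (g i) ^ e i = φ (g p) ^ e i * (φ (g i) / φ (g p)) ^ e i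
        rw [← mul_pow, mul_div_cancel₀ _ hp]
      rw [hd] at hGy
      exact (mul_eq_zero.mp hGy).resolve_left (pow_ne_zero _ hp)
  have hspec : (ι y : Proj (polyDeg m A)) ⤳ (show Proj (polyDeg m A) from q₁) :=
    specializes_iff_mem_closure.mpr
      ((ProjectiveSpectrum.le_iff_mem_closure _ (ι y) q₁).mp
        ((ProjectiveSpectrum.as_ideal_le_as_ideal _ (ι y) q₁).mp hle))
  obtain ⟨y₁, hy₁⟩ := hιr.ge (hspec.mem_closed hZ (hιr.le ⟨y, rfl⟩))
  have hsp : y ⤳ y₁ := ι.isClosedEmbedding.isInducing.specializes_iff.mp (hy₁ ▸ hspec)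
  have hI₁ : f y₁ ∈ PrimeSpectrum.zeroLocus (I : Set A) := fun a ha ↦ by
    show a ∈ (f y₁).asIdeal
    rw [hf, hy₁]
    refine (mem_pt_iff (res.comp φR) (res ∘ r) hc' (isHomogeneous_C _ a)).mpr ?_
    rw [eval₂_C]
    exact IsLocalRing.residue_eq_zero_iff _ |>.mpr ((R.valuation_lt_one_iff _).mpr (hφI a ha))
  have hres : ∀ j, X j ∈ (ι y₁).asHomogeneousIdeal ↔ R.valuation (φ (g j)) < R.valuation (φ (g p)) := fun j ↦ by
    rw [hy₁]
    refine (mem_pt_iff (res.comp φR) (res ∘ r) hc' (isHomogeneous_X A j)).trans ?_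
    rw [eval₂_X]
    show IsLocalRing.residue R (r j) = 0 ↔ _
    rw [IsLocalRing.residue_eq_zero_iff, R.valuation_lt_one_iff, map_div₀,
      div_lt_one₀ (by rw [zero_lt_iff, ne_eq, map_eq_zero]; exact hp)]
  have h1 : (⟨RingHom.ker φ, RingHom.ker_isPrime φ⟩ : PrimeSpectrum A) ∈ f '' (O : Set P) ↔ y ∈ O := by
    refine ⟨fun ⟨z, hz, hzx⟩ ↦ ?_, fun h ↦ ⟨y, h, hfy⟩⟩
    rwa [← huniq z y (hzx.trans hfy.symm) (hzx.symm ▸ ⟨p, hp⟩)]
  have h2 : y ∈ O ↔ y₁ ∈ O := ⟨fun h ↦ hsp.mem_closed hOc h, fun h ↦ hsp.mem_open O.isOpen h⟩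
  refine h1.trans (h2.trans ((hO y₁ hI₁).trans ?_))
  simp only [← hres]
  refine ⟨fun h j hj ↦ ?_, fun h hc ↦ hboth y₁ (fun i hi ↦ hc.2 ⟨i, hi, rfl⟩) h⟩
  exact (hEV.ge ⟨h, hI₁⟩).2 ⟨j, hj, rfl⟩

end

end GabberRigidLib
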