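import Groth.Agent.RelProjLib.ProjProper
import Mathlib.RingTheory.MvPolynomial.Ideal

/-!
# Points of projective space from field valued homogeneous coordinates
-/

set_option autoImplicit false

universe u

open CategoryTheory AlgebraicGeometry MvPolynomial RelProjLib

namespace GabberRigidLib

noncomputable section

variable {A : Type u} [CommRing A] {m : ℕ}

attribute [local instance] MvPolynomial.gradedAlgebra

/-- Substituting `c_i T` for the variables. -/
def evalT {K : Type u} [Field K] (φ : A →+* K) (c : Fin m → K) :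
    MvPolynomial (Fin m) A →+* Polynomial K :=
  eval₂Hom (Polynomial.C.comp φ) (fun i ↦ Polynomial.C (c i) * Polynomial.X)

theorem evalT_homogeneous {K : Type u} [Field K] (φ : A →+* K) (c : Fin m → K)
    {F : MvPolynomial (Fin m) A} {d : ℕ} (hF : F.IsHomogeneous d) :
    evalT φ c F = Polynomial.C (eval₂ φ c F) * Polynomial.X ^ d := by
  classical
  show eval₂ _ _ F = _
  rw [eval₂_eq, eval₂_eq, map_sum, Finset.sum_mul]
  refine Finset.sum_congr rfl fun e he ↦ ?_
  have hd : ∑ i ∈ e.support, e i = d := by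
    simpa [Finsupp.weight_apply, Finsupp.sum] using hF (MvPolynomial.mem_support_iff.mp he)
  simp only [RingHom.comp_apply, mul_pow, Finset.prod_mul_distrib, Finset.prod_pow_eq_pow_sum, hd, map_mul,
    map_prod, map_pow, mul_assoc]

theorem isHomogeneous_ker {K : Type u} [Field K] (φ : A →+* K) (c : Fin m → K) :
    (RingHom.ker (evalT φ c)).IsHomogeneous (polyDeg m A) := by
  intro d F hF
  show (DirectSum.decompose (polyDeg m A) F d : MvPolynomial (Fin m) A) ∈ _
  rw [show (DirectSum.decompose (polyDeg m A) F d : MvPolynomial (Fin m) A) = homogeneousComponent d F from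
    decomposition.decompose'_apply F d]
  show evalT φ c (homogeneousComponent d F) = 0
  rw [evalT_homogeneous φ c (homogeneousComponent_isHomogeneous d F)]
  have h := congrArg (fun P : Polynomial K ↦ P.coeff d) (show evalT φ c F = 0 from hF)
  conv at h => lhs; rw [← sum_homogeneousComponent F, map_sum]
  simp only [evalT_homogeneous φ c (homogeneousComponent_isHomogeneous _ F), Polynomial.finsetSum_coeff,
    Polynomial.coeff_C_mul_X_pow, Polynomial.coeff_zero] at h
  rw [Finset.sum_ite_eq] at h
  split_ifs at h with hd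
  · rw [h, map_zero, zero_mul]
  · have : homogeneousComponent d F = 0 := homogeneousComponent_eq_zero d F (by
      simp only [Finset.mem_range, not_lt] at hd
      omega)
    simp [this]

/-- The point with homogeneous coordinates `c`. -/
def pt {K : Type u} [Field K] (φ : A →+* K) (c : Fin m → K) (hc : ∃ i, c i ≠ 0) :
    ProjectiveSpectrum (polyDeg m A) where
  asHomogeneousIdeal := ⟨RingHom.ker (evalT φ c), isHomogeneous_ker φ c⟩
  isPrime := RingHom.ker_isPrime _
  not_irrelevant_le h := by
    obtain ⟨i, hi⟩ := hc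
    have hX : (X i : MvPolynomial (Fin m) A) ∈ HomogeneousIdeal.irrelevant (polyDeg m A) := by
      rw [HomogeneousIdeal.mem_irrelevant_iff, GradedRing.proj_apply]
      exact DirectSum.decompose_of_mem_ne _ ((mem_homogeneousSubmodule 1 _).mpr (isHomogeneous_X A i)) one_ne_zero
    have h1 : evalT φ c (X i) = 0 := h hX
    rw [evalT_homogeneous φ c (isHomogeneous_X A i), eval₂_X] at h1
    simp [hi] at h1

theorem mem_pt_iff {K : Type u} [Field K] (φ : A →+* K) (c : Fin m → K) (hc : ∃ i, c i ≠ 0)
    {F : MvPolynomial (Fin m) A} {d : ℕ} (hF : F.IsHomogeneous d) :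
    F ∈ (pt φ c hc).asHomogeneousIdeal ↔ eval₂ φ c F = 0 := by
  show evalT φ c F = 0 ↔ _
  rw [evalT_homogeneous φ c hF]
  simp

theorem le_of_forall_homogeneous {q q' : ProjectiveSpectrum (polyDeg m A)}
    (h : ∀ (d : ℕ) (F : MvPolynomial (Fin m) A), F.IsHomogeneous d → F ∈ q.asHomogeneousIdeal →
      F ∈ q'.asHomogeneousIdeal) : q ≤ q' := by
  show ∀ F, F ∈ q.asHomogeneousIdeal → F ∈ q'.asHomogeneousIdeal
  intro F hF
  rw [← sum_homogeneousComponent F]
  refine q'.asHomogeneousIdeal.toIdeal.sum_mem fun d _ ↦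
    h d _ (homogeneousComponent_isHomogeneous d F) ?_
  exact decomposition.decompose'_apply F d ▸ q.asHomogeneousIdeal.isHomogeneous d hF

theorem exists_X_notMem (q : ProjectiveSpectrum (polyDeg m A)) :
    ∃ i, (X i : MvPolynomial (Fin m) A) ∉ q.asHomogeneousIdeal := by
  classical
  by_contra h
  simp only [not_exists, not_not] at h
  refine q.not_irrelevant_le fun F hF ↦ ?_
  rw [HomogeneousIdeal.mem_irrelevant_iff, GradedRing.proj_apply] at hF
  have h0 : constantCoeff F = 0 := by
    have h2 : homogeneousComponent 0 F = 0 := (decomposition.decompose'_apply F 0).symm.trans hF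
    rwa [homogeneousComponent_zero, C_eq_zero] at h2
  have hspan : F ∈ Ideal.span (MvPolynomial.X '' (Set.univ : Set (Fin m))) := by
    rw [MvPolynomial.mem_ideal_span_X_image]
    intro e he
    by_contra hne
    simp only [Set.mem_univ, true_and, not_exists, not_not] at hne
    have he0 : e = 0 := Finsupp.ext hne
    subst he0
    exact (MvPolynomial.mem_support_iff.mp he) h0
  refine (Ideal.span_le.mpr ?_) hspan
  rintro _ ⟨i, -, rfl⟩
  exact h i

/-- A point over `x` on which `c` are homogeneous coordinates is the point with those coordinates. -/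
theorem mem_iff_of_linear (q : ProjectiveSpectrum (polyDeg m A)) (g : Fin m → A)
    (hlin : ∀ i j, C (g i) * X j - C (g j) * X i ∈ q.asHomogeneousIdeal)
    (hne : ∃ p, C (g p) ∉ q.asHomogeneousIdeal)
    {F : MvPolynomial (Fin m) A} {d : ℕ} (hF : F.IsHomogeneous d) :
    F ∈ q.asHomogeneousIdeal ↔ C (eval g F) ∈ q.asHomogeneousIdeal := by
  classical
  haveI := q.isPrime
  let Q := q.asHomogeneousIdeal.toIdeal
  obtain ⟨p, hp⟩ := hne
  let π := Ideal.Quotient.mk Q
  let ξ : Fin m → MvPolynomial (Fin m) A ⧸ Q := fun i ↦ π (X i)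
  let ψ : A →+* MvPolynomial (Fin m) A ⧸ Q := π.comp C
  have hlin' : ∀ i j, ψ (g i) * ξ j = ψ (g j) * ξ i := fun i j ↦ by
    show π _ * π _ = π _ * π _
    rw [← map_mul, ← map_mul, Ideal.Quotient.eq]
    exact hlin i j
  have hXp : ξ p ≠ 0 := by
    obtain ⟨i, hi⟩ := exists_X_notMem q
    intro hz
    have h1 := hlin' p i
    rw [hz, mul_zero, mul_eq_zero] at h1
    exact h1.elim (fun h ↦ hp (Ideal.Quotient.eq_zero_iff_mem.mp h)) fun h ↦ hi (Ideal.Quotient.eq_zero_iff_mem.mp h)
  have hev : ∀ G : MvPolynomial (Fin m) A, π G = eval₂ ψ ξ G := fun G ↦ by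
    induction G using MvPolynomial.induction_on with
    | C a => simp [ψ]
    | add G G' hG hG' => simp [hG, hG']
    | mul_X G i hG => simp [hG, ξ]
  have key : ψ (g p) ^ d * π F = ψ (eval g F) * ξ p ^ d := by
    have hψ : ψ (eval g F) = eval₂ ψ (fun i ↦ ψ (g i)) F := by
      rw [eval₂_eq, eval_eq, map_sum]
      exact Finset.sum_congr rfl fun e _ ↦ by simp
    rw [hev, hψ, eval₂_eq, eval₂_eq, Finset.mul_sum, Finset.sum_mul]
    refine Finset.sum_congr rfl fun e he ↦ ?_
    have hd : ∑ i ∈ e.support, e i = d := by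
      simpa [Finsupp.weight_apply, Finsupp.sum] using hF (MvPolynomial.mem_support_iff.mp he)
    calc ψ (g p) ^ d * (ψ (coeff e F) * ∏ i ∈ e.support, ξ i ^ e i)
        = ψ (coeff e F) * ∏ i ∈ e.support, (ψ (g p) * ξ i) ^ e i := by
          rw [← hd, ← Finset.prod_pow_eq_pow_sum]
          simp only [mul_pow, Finset.prod_mul_distrib]
          ring
      _ = ψ (coeff e F) * ∏ i ∈ e.support, (ψ (g i) * ξ p) ^ e i := by
          simp only [hlin' p]
      _ = ψ (coeff e F) * (∏ i ∈ e.support, ψ (g i) ^ e i) * ξ p ^ d := by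
          rw [← hd, ← Finset.prod_pow_eq_pow_sum]
          simp only [mul_pow, Finset.prod_mul_distrib]
          ring
  have hgp : ψ (g p) ≠ 0 := fun h ↦ hp (Ideal.Quotient.eq_zero_iff_mem.mp h)
  show F ∈ Q ↔ C (eval g F) ∈ Q
  rw [← Ideal.Quotient.eq_zero_iff_mem, ← Ideal.Quotient.eq_zero_iff_mem]
  refine ⟨fun h ↦ ?_, fun h ↦ ?_⟩
  · show ψ (eval g F) = 0
    have h' : π F = 0 := h
    rw [h', mul_zero] at key
    exact (mul_eq_zero.mp key.symm).resolve_right (pow_ne_zero _ hXp)
  · have h' : ψ (eval g F) = 0 := h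
    rw [h', zero_mul] at key
    exact (mul_eq_zero.mp key).resolve_left (pow_ne_zero _ hgp)

/-- The projection of projective space to the base. -/
def proj (m : ℕ) (A : Type u) [CommRing A] : Proj (polyDeg m A) ⟶ Spec (CommRingCat.of A) :=
  Proj.toSpecZero (polyDeg m A) ≫ Spec.map (CommRingCat.ofHom (algebraMap A (polyDeg m A 0)))

instance : IsProper (proj m A) := isProper_polyToSpec m A

theorem mem_proj_iff (q : Proj (polyDeg m A)) (a : A) :
    a ∈ ((proj m A) q).asIdeal ↔ C a ∈ q.asHomogeneousIdeal := by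
  obtain ⟨i, hi⟩ := exists_X_notMem (q : ProjectiveSpectrum (polyDeg m A))
  have hX : (X i : MvPolynomial (Fin m) A) ∈ polyDeg m A 1 := isHomogeneous_X A i
  obtain ⟨P, hP⟩ : q ∈ Set.range (Proj.awayι (polyDeg m A) (X i) hX one_pos) := by
    have h1 : q ∈ (Proj.awayι (polyDeg m A) (X i) hX one_pos).opensRange := by
      rw [Proj.opensRange_awayι]; exact hi
    exact h1
  subst hP
  have hg : C a * X i ∈ polyDeg m A 1 := (isHomogeneous_X A i).C_mul a
  have h2 := SetLike.ext_iff.mp (Proj.awayι_preimage_basicOpen (polyDeg m A) hX one_pos hg one_pos) P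
  haveI := (Proj.awayι (polyDeg m A) (X i) hX one_pos P : ProjectiveSpectrum (polyDeg m A)).isPrime
  have hel : HomogeneousLocalization.Away.isLocalizationElem hX hg =
      HomogeneousLocalization.fromZeroRingHom (polyDeg m A) _ (algebraMap A (polyDeg m A 0) a) := by
    apply HomogeneousLocalization.val_injective
    erw [HomogeneousLocalization.Away.val_mk]
    show Localization.mk _ _ = Localization.mk _ _
    rw [Localization.mk_eq_mk_iff, Localization.r_iff_exists]
    refine ⟨1, ?_⟩
    simp
    ring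
  have hcomp : (proj m A) ((Proj.awayι (polyDeg m A) (X i) hX one_pos) P) =
      (Spec.map (CommRingCat.ofHom (algebraMap A (polyDeg m A 0))))
        ((Spec.map (CommRingCat.ofHom (HomogeneousLocalization.fromZeroRingHom (polyDeg m A) _))) P) := by
    rw [← Scheme.Hom.comp_apply, proj, Proj.awayι_toSpecZero_assoc]
    rfl
  rw [hcomp]
  show HomogeneousLocalization.fromZeroRingHom (polyDeg m A) _ (algebraMap A (polyDeg m A 0) a) ∈ P.asIdeal ↔ _
  rw [← hel]
  refine not_iff_not.mp (h2.symm.trans ?_)
  exact ⟨fun h hC ↦ h (Ideal.mul_mem_right _ _ hC), fun h hm ↦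
    ((‹Ideal.IsPrime _›).mem_or_mem hm).elim h hi⟩

end

end GabberRigidLib
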