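import Groth.Agent.GabberRigidLib.Core
import Groth.Agent.GabberRigidLib.Completion
import Mathlib.RingTheory.Spectrum.Prime.Noetherian

/-!
# Gabber's rigidity for clopen subsets
-/

set_option autoImplicit false

universe u

namespace GabberRigidLib

noncomputable section

variable {A : Type u} [CommRing A] {I : Ideal A}

theorem exists_pow_le_span (hI : I.FG) {n : ℕ} (g : Fin n → A)
    (h : ∀ x : PrimeSpectrum A, (∀ i, g i ∈ x.asIdeal) → I ≤ x.asIdeal) :
    ∃ N, I ^ N ≤ Ideal.span (Set.range g) := by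
  refine Ideal.exists_pow_le_of_le_radical_of_fg ?_ hI
  rw [Ideal.radical_eq_sInf]
  refine le_sInf fun P ⟨hP, hPp⟩ ↦ ?_
  exact h ⟨P, hPp⟩ fun i ↦ hP (Ideal.subset_span ⟨i, rfl⟩)

variable [HenselianRing A I]

/-- A clopen subset of `U` with empty preimage in the completion is empty. -/
theorem eq_empty_of_preimage (hI : I.FG) {n : ℕ} (f : Fin n → A)
    (hf : ∀ x : PrimeSpectrum A, (∀ i, f i ∈ x.asIdeal) → I ≤ x.asIdeal)
    (V : Set (PrimeSpectrum A)) (hV : V ⊆ {x | ∃ i, f i ∉ x.asIdeal}) (hVo : IsOpen V)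
    (hVo' : IsOpen ({x : PrimeSpectrum A | ∃ i, f i ∉ x.asIdeal} \ V))
    (hempty : ∀ p : PrimeSpectrum (AdicCompletion I A),
      PrimeSpectrum.comap (algebraMap A (AdicCompletion I A)) p ∉ V) : V = ∅ := by
  classical
  obtain ⟨k, l, E, -, hd, -, hl, hk⟩ := exists_orthogonal f V hV hVo hVo'
  have hnil : ∀ i, IsNilpotent (algebraMap A (AdicCompletion I A) (k i)) := fun i ↦ by
    rw [← mem_nilradical, nilradical_eq_sInf, Submodule.mem_sInf]
    intro P hP
    exact hk _ (hempty ⟨P, hP⟩) i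
  choose e he using hnil
  let e' : ℕ := (Finset.univ : Finset (Fin n)).sup e + 1
  choose d hd0 hdsum using hd
  let g : Fin n → A := fun i ↦ f i ^ (d i * e')
  obtain ⟨N, hN⟩ := exists_pow_le_span hI g fun x hx ↦ hf x fun i ↦
    x.isPrime.mem_of_pow_mem _ (hx i)
  have hkI : ∀ i, k i ^ e' ∈ I * Ideal.span (Set.range g) := fun i ↦ by
    refine Ideal.mul_mono le_rfl hN ?_
    rw [← pow_succ']
    refine mem_pow_of_map_mem (N + 1) ?_
    rw [map_pow, pow_eq_zero_of_le ((Finset.le_sup (Finset.mem_univ i)).trans (Nat.le_succ _)) (he i)]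
    exact zero_mem _
  refine Set.eq_empty_iff_forall_notMem.mpr fun x hx ↦ ?_
  let φ := algebraMap A x.asIdeal.ResidueField
  obtain ⟨M, hM, hxM⟩ := Ideal.exists_le_maximal x.asIdeal x.isPrime.ne_top
  haveI := hM
  have hker : RingHom.ker φ ≤ M := fun a ha ↦ hxM (Ideal.algebraMap_residueField_eq_zero.mp ha)
  obtain ⟨R, hR, hRI⟩ := exists_valuationSubring φ I M hker
    ((HenselianRing.jac (I := I)).trans (sInf_le ⟨bot_le, hM⟩))
  obtain ⟨i₀, hi₀⟩ := hV hx
  have hne : φ (g i₀) ≠ 0 := fun h ↦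
    hi₀ (x.isPrime.mem_of_pow_mem _ (Ideal.algebraMap_residueField_eq_zero.mp h))
  obtain ⟨p, -, hp⟩ := Finset.exists_max_image Finset.univ (fun i ↦ R.valuation (φ (g i)))
    ⟨i₀, Finset.mem_univ _⟩
  have hpne : φ (g p) ≠ 0 := fun h ↦ hne (by
    rw [← R.valuation.zero_iff]
    exact le_antisymm ((hp i₀ (Finset.mem_univ _)).trans (by rw [h, map_zero])) zero_le)
  have h1 := valuation_lt_of_mem φ R hR I hRI g p hpne (fun q ↦ hp q (Finset.mem_univ _)) (hkI p)
  refine lt_irrefl (R.valuation (φ (g p))) (lt_of_eq_of_lt (congrArg _ ?_) h1)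
  show φ (f p ^ (d p * e')) = φ (k p ^ e')
  rw [pow_mul, ← hdsum p, map_pow, map_pow, map_add, show φ (l p) = 0 from
    Ideal.algebraMap_residueField_eq_zero.mpr (hl x hx p), add_zero]

/-- Clopen subsets descend from the completion. -/
theorem exists_descent (hI : I.FG) {n : ℕ} (f : Fin n → A)
    (hf : ∀ x : PrimeSpectrum A, (∀ i, f i ∈ x.asIdeal) → I ≤ x.asIdeal)
    (V' : Set (PrimeSpectrum (AdicCompletion I A)))
    (hV' : V' ⊆ {p | ∃ i, algebraMap A (AdicCompletion I A) (f i) ∉ p.asIdeal}) (hVo : IsOpen V')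
    (hVo' : IsOpen ({p : PrimeSpectrum (AdicCompletion I A) |
      ∃ i, algebraMap A (AdicCompletion I A) (f i) ∉ p.asIdeal} \ V')) :
    ∃ V : Set (PrimeSpectrum A), V ⊆ {x | ∃ i, f i ∉ x.asIdeal} ∧ IsOpen V ∧
      IsOpen ({x : PrimeSpectrum A | ∃ i, f i ∉ x.asIdeal} \ V) ∧
      ∀ p : PrimeSpectrum (AdicCompletion I A),
        (∃ i, algebraMap A (AdicCompletion I A) (f i) ∉ p.asIdeal) →
        (PrimeSpectrum.comap (algebraMap A (AdicCompletion I A)) p ∈ V ↔ p ∈ V') := by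
  classical
  obtain ⟨k', l', -, -, hd, hkl, hl', hk'⟩ :=
    exists_orthogonal (fun i ↦ algebraMap A (AdicCompletion I A) (f i)) V' hV' hVo hVo'
  choose d hd0 hdsum using hd
  obtain ⟨N, hN⟩ := exists_pow_le_span hI (fun i ↦ f i ^ d i) fun x hx ↦ hf x fun i ↦
    x.isPrime.mem_of_pow_mem _ (hx i)
  let M := N + N + 1
  choose a ha using fun i ↦ exists_sub_mem_pow hI M (k' i)
  let b : Fin n → A := fun i ↦ f i ^ d i - a i
  have hb : ∀ i, l' i - algebraMap A (AdicCompletion I A) (b i) ∈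
      (I ^ M).map (algebraMap A (AdicCompletion I A)) := fun i ↦ by
    have h : l' i - algebraMap A (AdicCompletion I A) (b i) =
        -(k' i - algebraMap A (AdicCompletion I A) (a i)) := by
      rw [map_sub, map_pow, ← hdsum i]; ring
    rw [h]; exact neg_mem (ha i)
  have hab : ∀ i j, a i * b j ∈ I ^ M := fun i j ↦ by
    refine mem_pow_of_map_mem M ?_
    have h : algebraMap A (AdicCompletion I A) (a i * b j) =
        k' i * l' j - ((k' i - algebraMap A (AdicCompletion I A) (a i)) * l' j +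
          algebraMap A (AdicCompletion I A) (a i) * (l' j - algebraMap A (AdicCompletion I A) (b j))) := by
      rw [map_mul]; ring
    rw [h, hkl, zero_sub]
    exact neg_mem (add_mem (Ideal.mul_mem_right _ _ (ha i)) (Ideal.mul_mem_left _ _ (hb j)))
  let g : Fin (n + n) → A := Fin.append a b
  have hgspan : Ideal.span (Set.range fun i ↦ f i ^ d i) ≤ Ideal.span (Set.range g) := by
    refine Ideal.span_le.mpr ?_
    rintro _ ⟨i, rfl⟩
    show f i ^ d i ∈ Ideal.span (Set.range g)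
    rw [show f i ^ d i = a i + b i from (add_sub_cancel _ _).symm]
    exact add_mem (Ideal.subset_span ⟨Fin.castAdd n i, Fin.append_left a b i⟩)
      (Ideal.subset_span ⟨Fin.natAdd n i, Fin.append_right a b i⟩)
  have hNg := hN.trans hgspan
  have hM2 : I ^ M ≤ I * (Ideal.span (Set.range g) * Ideal.span (Set.range g)) := by
    rw [show M = 1 + (N + N) from Nat.add_comm _ _, pow_add, pow_one, pow_add]
    exact Ideal.mul_mono le_rfl (Ideal.mul_mono hNg hNg)
  have hM1 : I ^ M ≤ I * Ideal.span (Set.range g) :=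
    hM2.trans (Ideal.mul_mono le_rfl Ideal.mul_le_right)
  let S : Set (Fin (n + n)) := Set.range (Fin.natAdd n)
  obtain ⟨W, hW, hW', hWval⟩ := exists_decomposition I g S (by
    intro i hi j ⟨j₀, hj₀⟩
    induction i using Fin.addCases with
    | left i₀ =>
      subst hj₀
      simp only [g, Fin.append_left, Fin.append_right]
      exact hM2 (hab i₀ j₀)
    | right i₀ => exact (hi ⟨i₀, rfl⟩).elim)
  let U : Set (PrimeSpectrum A) := {x | ∃ i, f i ∉ x.asIdeal}
  have hU : IsOpen U := by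
    have : U = ⋃ i, (PrimeSpectrum.basicOpen (f i) : Set (PrimeSpectrum A)) := by
      ext x; simp [U]
    rw [this]
    exact isOpen_iUnion fun i ↦ (PrimeSpectrum.basicOpen (f i)).isOpen
  have hUD : U ⊆ {x | ∃ i, g i ∉ x.asIdeal} := by
    rintro x ⟨i, hi⟩
    by_contra h
    simp only [Set.mem_setOf_eq, not_exists, not_not] at h
    refine hi (x.isPrime.mem_of_pow_mem (d i) ?_)
    exact Ideal.span_le.mpr (Set.range_subset_iff.mpr h) (hgspan (Ideal.subset_span ⟨i, rfl⟩))
  refine ⟨U ∩ W, Set.inter_subset_left, ?_, ?_, ?_⟩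
  · rw [show U ∩ W = U ∩ ({x | ∃ i, g i ∉ x.asIdeal} ∩ W) by
      rw [← Set.inter_assoc, Set.inter_eq_left.mpr hUD]]
    exact hU.inter hW
  · rw [show U \ (U ∩ W) = U ∩ ({x | ∃ i, g i ∉ x.asIdeal} \ W) by
      ext x; exact ⟨fun ⟨h, h'⟩ ↦ ⟨h, hUD h, fun hw ↦ h' ⟨h, hw⟩⟩, fun ⟨h, h'⟩ ↦ ⟨h, fun hw ↦ h'.2 hw.2⟩⟩]
    exact hU.inter hW'
  intro p hp
  let K := p.asIdeal.ResidueField
  let π := algebraMap (AdicCompletion I A) K
  let φ : A →+* K := π.comp (algebraMap A (AdicCompletion I A))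
  obtain ⟨m, hm, hpm⟩ := Ideal.exists_le_maximal p.asIdeal p.isPrime.ne_top
  haveI := hm
  obtain ⟨R, hR, hRI⟩ := exists_valuationSubring π (I.map (algebraMap A (AdicCompletion I A))) m
    (fun z hz ↦ hpm (Ideal.algebraMap_residueField_eq_zero.mp hz))
    ((map_le_jacobson hI).trans (sInf_le ⟨bot_le, hm⟩))
  have hφR : ∀ z, φ z ∈ R := fun z ↦ hR _
  have hφI : ∀ z ∈ I, R.valuation (φ z) < 1 := fun z hz ↦ hRI _ (Ideal.mem_map_of_mem _ hz)
  have hker : (⟨RingHom.ker φ, RingHom.ker_isPrime φ⟩ : PrimeSpectrum A) =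
      PrimeSpectrum.comap (algebraMap A (AdicCompletion I A)) p :=
    PrimeSpectrum.ext (Ideal.ext fun z ↦ Ideal.algebraMap_residueField_eq_zero)
  have hpU : PrimeSpectrum.comap (algebraMap A (AdicCompletion I A)) p ∈ U := hp
  obtain ⟨q₀, hq₀⟩ := hUD hpU
  have hne₀ : φ (g q₀) ≠ 0 := fun h ↦ hq₀
    (show algebraMap A (AdicCompletion I A) (g q₀) ∈ p.asIdeal from Ideal.algebraMap_residueField_eq_zero.mp h)
  obtain ⟨q, -, hq⟩ := Finset.exists_max_image Finset.univ (fun i ↦ R.valuation (φ (g i)))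
    ⟨q₀, Finset.mem_univ _⟩
  have hqne : φ (g q) ≠ 0 := fun h ↦ hne₀ (by
    rw [← R.valuation.zero_iff]
    exact le_antisymm ((hq q₀ (Finset.mem_univ _)).trans (by rw [h, map_zero])) zero_le)
  have hmax : ∀ i, R.valuation (φ (g i)) ≤ R.valuation (φ (g q)) := fun i ↦ hq i (Finset.mem_univ _)
  have hsmall : ∀ z ∈ (I ^ M).map (algebraMap A (AdicCompletion I A)),
      R.valuation (π z) < R.valuation (φ (g q)) := by
    intro z hz
    refine valuation_lt_of_mem π R hR _ hRI (fun i ↦ algebraMap A (AdicCompletion I A) (g i)) q hqne hmax ?_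
    have h := Ideal.map_mono (f := algebraMap A (AdicCompletion I A)) hM1 hz
    rwa [Ideal.map_mul, Ideal.map_span, ← Set.range_comp] at h
  have hkey := hWval φ R hφR hφI q hqne hmax
  rw [hker] at hkey
  refine ⟨fun h ↦ ?_, fun h ↦ ⟨hpU, hkey.mpr ?_⟩⟩
  · by_contra hn
    have h1 := hkey.mp h.2
    induction q using Fin.addCases with
    | left q₁ =>
      have h2 := hsmall _ (ha q₁)
      rw [map_sub, show π (k' q₁) = 0 from Ideal.algebraMap_residueField_eq_zero.mpr (hk' p hn q₁), zero_sub,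
        Valuation.map_neg] at h2
      exact h2.ne (by simp [g, φ])
    | right q₁ => exact lt_irrefl _ (h1 _ ⟨q₁, rfl⟩)
  · rintro _ ⟨j, rfl⟩
    have h2 := hsmall _ (hb j)
    rw [map_sub, show π (l' j) = 0 from Ideal.algebraMap_residueField_eq_zero.mpr (hl' p h j), zero_sub,
      Valuation.map_neg] at h2
    show R.valuation (π (algebraMap A (AdicCompletion I A) (g (Fin.natAdd n j)))) < _
    rw [show g (Fin.natAdd n j) = b j from Fin.append_right a b j]
    exact h2

end

end GabberRigidLib
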